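import Mathlib.AlgebraicGeometry.Fiber
import Groth.Agent.EulerChar.Leray
import Groth.Agent.IntProd70.Push
import Groth.Agent.DefAmple27.Point
import Groth.Agent.LocCohSweep.ConnDim
import Groth.Agent.Props.NormalCM
import Groth.Agent.ChiPoly.Basic
import Groth.Agent.ModShf.Flasque

set_option autoImplicit false
set_option linter.style.haveILetI false
set_option maxHeartbeats 1600000
universe u
open CategoryTheory CategoryTheory.Limits AlgebraicGeometry TopologicalSpace

namespace Groth.Agent.ResolveR1

open Groth.Agent in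
/-- The fibre dimensions of a surjective-on-sections modification of surfaces. -/
theorem fibre_dims {X S : Scheme.{u}} (π : S ⟶ X) [IrreducibleSpace S] [IrreducibleSpace X]
    (hdimS : topologicalKrullDim S ≤ 2) (U : X.Opens) (hU : (U : Set X).Nonempty)
    (hiso : IsIso (π ∣_ U)) (x : X) :
    (x ∈ U → topologicalKrullDim ↥(π.fiber x) ≤ 0) ∧
      (IsClosed ({x} : Set X) → topologicalKrullDim ↥(π.fiber x) ≤ 1) := by
  rw [show topologicalKrullDim ↥(π.fiber x) = topologicalKrullDim ↥(π ⁻¹' {x} : Set S) from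
    IsHomeomorph.topologicalKrullDim_eq _ (π.fiberHomeo x).isHomeomorph]
  have key : x ∈ U → topologicalKrullDim ↥(π ⁻¹' {x} : Set S) ≤ 0 := by
    intro hx
    haveI : Subsingleton ↥(π ⁻¹' {x} : Set S) := by
      refine ⟨fun a b => ?_⟩
      have ha : a.1 ∈ π ⁻¹ᵁ U := by
        show π a.1 ∈ U
        rw [show π a.1 = x from a.2]; exact hx
      have hb : b.1 ∈ π ⁻¹ᵁ U := by
        show π b.1 ∈ U
        rw [show π b.1 = x from b.2]; exact hx
      have hinj := (π ∣_ U).homeomorph.injective
      have : (π ∣_ U) ⟨a.1, ha⟩ = (π ∣_ U) ⟨b.1, hb⟩ := by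
        apply Subtype.ext
        exact ((morphismRestrict_base_coe π U _).trans
          ((show π a.1 = x from a.2).trans (show π b.1 = x from b.2).symm)).trans
          (morphismRestrict_base_coe π U _).symm
      have h' := hinj this
      exact Subtype.ext (show a.1 = b.1 from congrArg (fun z : ↥(π ⁻¹ᵁ U) => z.1) h')
    haveI : Subsingleton (IrreducibleCloseds ↥(π ⁻¹' {x} : Set S)) := ⟨fun A B => SetLike.ext fun c => by
      obtain ⟨a, ha⟩ := A.isIrreducible.nonempty
      obtain ⟨b, hb⟩ := B.isIrreducible.nonempty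
      exact ⟨fun _ => (Subsingleton.elim b c) ▸ hb, fun _ => (Subsingleton.elim a c) ▸ ha⟩⟩
    exact Order.krullDim_nonpos_of_subsingleton
  refine ⟨key, ?_⟩
  intro hcl
  by_cases hxU : x ∈ U
  · exact (key hxU).trans zero_le_one
  · have hne : (π ⁻¹' {x} : Set S) ⊂ Set.univ := by
      refine ⟨Set.subset_univ _, fun h => hxU ?_⟩
      obtain ⟨u, hu⟩ := hU
      obtain ⟨z, hz⟩ := (π ∣_ U).homeomorph.surjective ⟨u, hu⟩
      have : π z.1 = u := by
        rw [← morphismRestrict_base_coe π U z]; exact congrArg Subtype.val hz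
      rw [show π z.1 = x from h trivial] at this
      rw [this]; exact hu
    have h := LocCohSweep.ConnDim.dim_add_one_le (T := S) (IrreducibleSpace.isIrreducible_univ _)
      (hcl.preimage π.continuous) hne
    rw [LocCohSweep.ConnDim.dim_univ] at h
    have h2 := h.trans hdimS
    generalize topologicalKrullDim ↥(π ⁻¹' {x} : Set S) = d at h2 ⊢
    cases d with
    | bot => exact bot_le
    | coe d =>
      have h3 : d + 1 ≤ 1 + 1 := WithBot.coe_le_coe.1 (h2.trans (le_of_eq (by norm_num)))
      have h4 : d ≤ 1 := ENat.addLECancellable_of_ne_top (by simp : (1 : ℕ∞) ≠ ⊤) |>.add_le_add_iff_right.1 h3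
      exact_mod_cast h4

end Groth.Agent.ResolveR1
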